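/-
The generalized Fitting subgroup of an involution centraliser of symplectic type, viewed in `G`.
Main results: `mem_generalizedFitting_of_mem_center`, `fstar`, `mem_fstar`, `conj_fstar`,
`conj_map_eq_of_characteristic`, `eq_of_sq_eq_one` (a symplectic-type group has one central
involution).
-/
import Cfsg.Agent.Lib.Cores.Fitting
import Cfsg.Agent.Lib.Components.Basic

set_option autoImplicit false

namespace Cfsg.Agent.Symplectic

open Subgroup

variable {G : Type*} [Group G]

/-- `F*(C_G(z))` as a subgroup of `G`. -/
abbrev fstar (z : G) : Subgroup G :=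
  (Cfsg.generalizedFittingSubgroup ↥(centralizer ({z} : Set G))).map
    (centralizer ({z} : Set G)).subtype

theorem fstar_le (z : G) : fstar z ≤ centralizer ({z} : Set G) := map_subtype_le _

theorem self_mem_center (z : G) :
    (⟨z, mem_centralizer_singleton_iff.2 rfl⟩ : ↥(centralizer ({z} : Set G))) ∈
      center ↥(centralizer ({z} : Set G)) :=
  mem_center_iff.2 fun g => Subtype.ext (mem_centralizer_singleton_iff.1 g.2)

theorem center_le_generalizedFitting (X : Type*) [Group X] :
    center X ≤ Cfsg.generalizedFittingSubgroup X :=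
  (Cfsg.Agent.Cores.center_le_fittingSubgroup).trans le_sup_right

theorem generalizedFitting_normal (X : Type*) [Group X] :
    (Cfsg.generalizedFittingSubgroup X).Normal := by
  haveI := Cfsg.Agent.Components.layer_normal (G := X)
  haveI := Cfsg.Agent.Cores.fittingSubgroup_normal (G := X)
  exact Subgroup.sup_normal _ _

theorem mem_fstar (z : G) : z ∈ fstar z :=
  ⟨_, center_le_generalizedFitting _ (self_mem_center z), rfl⟩

theorem commute_of_mem_fstar {z q : G} (hq : q ∈ fstar z) : q * z = z * q :=
  mem_centralizer_singleton_iff.1 (fstar_le z hq)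

/-- In a group of symplectic type a central element of square one is unique up to being trivial. -/
theorem eq_of_sq_eq_one {T : Type*} [Group T] [Finite T] (hT : Cfsg.IsOfSymplecticType T) {a b : T}
    (ha : a ∈ center T) (hb : b ∈ center T) (ha2 : a ^ 2 = 1) (hb2 : b ^ 2 = 1) (ha1 : a ≠ 1)
    (hb1 : b ≠ 1) : a = b := by
  haveI : IsCyclic ↥(center T) := hT.2 _ inferInstance inferInstance
  classical
  haveI := Fintype.ofFinite ↥(center T)
  by_contra hne
  have hsub : ({1, (⟨a, ha⟩ : ↥(center T)), ⟨b, hb⟩} : Finset ↥(center T)) ⊆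
      ({x : ↥(center T) | x ^ 2 = 1} : Finset ↥(center T)) := by
    intro x hx
    simp only [Finset.mem_insert, Finset.mem_singleton] at hx
    rw [Finset.mem_filter]
    refine ⟨Finset.mem_univ _, ?_⟩
    rcases hx with rfl | rfl | rfl
    · exact one_pow 2
    · exact Subtype.ext ha2
    · exact Subtype.ext hb2
  have h3 : ({1, (⟨a, ha⟩ : ↥(center T)), ⟨b, hb⟩} : Finset ↥(center T)).card = 3 := by
    rw [Finset.card_insert_of_notMem, Finset.card_pair]
    · exact fun h => hne (congrArg Subtype.val h)
    · simp [Subtype.ext_iff, Ne.symm ha1, Ne.symm hb1]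
  have := Finset.card_le_card hsub
  have := IsCyclic.card_pow_eq_one_le (α := ↥(center T)) (n := 2) (by norm_num)
  omega

end Cfsg.Agent.Symplectic
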