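/-
A 2-group of symplectic type and exponent dividing 4 has squares and commutators in the subgroup
of order 2 of its centre.
Main results: `commutator_sq_eq_one` (normalised cyclic commutator in exponent 4),
`commutator_le_center`, `exists_relations`.
-/
import Cfsg.Agent.Lib.Symplectic.Basic

set_option autoImplicit false

namespace Cfsg.Agent.Symplectic

open Subgroup
open scoped commutatorElement

variable {T : Type*} [Group T]

/-- In exponent four, a commutator generating a subgroup normalised by `x` and `y` has square one. -/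
theorem commutator_sq_eq_one (h4 : ∀ t : T, t ^ 4 = 1) {x y : T}
    (hx : x * ⁅x, y⁆ * x⁻¹ ∈ zpowers ⁅x, y⁆) (hy : y * ⁅x, y⁆ * y⁻¹ ∈ zpowers ⁅x, y⁆) :
    ⁅x, y⁆ ^ 2 = 1 := by
  -- the four possible images of an element of order dividing four
  have key : ∀ {a u : T}, a ^ 2 ≠ 1 → u * a * u⁻¹ ∈ zpowers a →
      u * a = a * u ∨ u * a = a⁻¹ * u := by
    intro a u ha hu
    obtain ⟨k, hk⟩ := hu
    have hk' : u * a = a ^ k * u := by
      have : a ^ k = u * a * u⁻¹ := hk
      rw [this, inv_mul_cancel_right]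
    have ha4 : a ^ (4 : ℤ) = 1 := by
      rw [show (4 : ℤ) = ((4 : ℕ) : ℤ) by norm_num, zpow_natCast]; exact h4 a
    rw [← Int.emod_add_mul_ediv k 4, zpow_add, zpow_mul, ha4, one_zpow, mul_one] at hk'
    have h0 := Int.emod_nonneg k (show (4 : ℤ) ≠ 0 by norm_num)
    have h1 := Int.emod_lt_of_pos k (show (0 : ℤ) < 4 by norm_num)
    have hsq : (a ^ (k % 4)) ^ 2 ≠ 1 := fun e => ha (by
      have e' : u * a ^ 2 * u⁻¹ = 1 := by
        rw [← e, show a ^ (k % 4) = u * a * u⁻¹ by rw [hk']; group, pow_two, pow_two]; group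
      exact conj_eq_one_iff.1 e')
    rcases (show k % 4 = 0 ∨ k % 4 = 1 ∨ k % 4 = 2 ∨ k % 4 = 3 by omega) with e | e | e | e
    · exact absurd (by rw [e]; simp) hsq
    · left; rw [e, zpow_one] at hk'; exact hk'
    · exact absurd (by rw [e, pow_two, ← zpow_add]; exact ha4) hsq
    · right
      rw [e, show (3 : ℤ) = 4 - 1 by norm_num, zpow_sub, ha4, zpow_one, one_mul] at hk'
      exact hk'
  -- the situation where the first element centralises the commutator
  have main : ∀ x y : T, x * ⁅x, y⁆ = ⁅x, y⁆ * x →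
      (y * ⁅x, y⁆ = ⁅x, y⁆ * y ∨ y * ⁅x, y⁆ = ⁅x, y⁆⁻¹ * y) → ⁅x, y⁆ ^ 2 = 1 := by
    intro x y hxa hya
    obtain ⟨a, ha⟩ : ∃ a, a = ⁅x, y⁆ := ⟨_, rfl⟩
    rw [← ha] at hxa hya ⊢
    have e : x * y = a * y * x := by rw [ha, commutatorElement_def]; group
    have hxa' : x * x * a = a * (x * x) := by rw [mul_assoc, hxa, ← mul_assoc, hxa, mul_assoc]
    rcases hya with hya | hya
    · have exx : x * x * y = a * a * y * (x * x) := by
        calc x * x * y = x * (a * y * x) := by rw [mul_assoc, e]
          _ = a * (x * y) * x := by simp only [← mul_assoc]; rw [hxa]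
          _ = _ := by rw [e]; simp only [mul_assoc]
      have hya' : y * a = a * y := hya
      have e1 : (y * x) * (y * x) = a * (y * y) * (x * x) := by
        calc (y * x) * (y * x) = y * (x * y) * x := by simp only [mul_assoc]
          _ = (y * a) * y * x * x := by rw [e]; simp only [mul_assoc]
          _ = _ := by rw [hya']; simp only [mul_assoc]
      have hyl : ∀ t, y * (a * t) = a * (y * t) := fun t => by rw [← mul_assoc, hya', mul_assoc]
      have exy : x * x * (y * y) = a * a * a * a * (y * y) * (x * x) := by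
        calc x * x * (y * y) = x * x * y * y := by simp only [mul_assoc]
          _ = a * a * y * (x * x) * y := by rw [exx]
          _ = a * a * y * (x * x * y) := by simp only [mul_assoc]
          _ = a * a * y * (a * a * y * (x * x)) := by rw [exx]
          _ = _ := by simp only [mul_assoc, hyl]
      have ha4 : a * a * a * a = 1 := by
        have := h4 a; simp only [pow_succ, pow_zero, one_mul] at this; exact this
      rw [ha4, one_mul] at exy
      have hyy : (y * y) * a = a * (y * y) := by rw [mul_assoc, hya', ← mul_assoc, hya', mul_assoc]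
      have h : (y * x) ^ 4 = a * a * ((y * y) * (y * y)) * ((x * x) * (x * x)) := by
        calc (y * x) ^ 4 = ((y * x) * (y * x)) * ((y * x) * (y * x)) := by
              simp only [pow_succ, pow_zero, one_mul, mul_assoc]
          _ = a * (y * y) * ((x * x) * a) * (y * y) * (x * x) := by rw [e1]; simp only [mul_assoc]
          _ = a * ((y * y) * a) * ((x * x) * (y * y)) * (x * x) := by
              rw [hxa']; simp only [mul_assoc]
          _ = _ := by rw [hyy, exy]; simp only [mul_assoc]
      have hy4 : (y * y) * (y * y) = 1 := by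
        have := h4 y; simp only [pow_succ, pow_zero, one_mul, mul_assoc] at this ⊢; exact this
      have hx4 : (x * x) * (x * x) = 1 := by
        have := h4 x; simp only [pow_succ, pow_zero, one_mul, mul_assoc] at this ⊢; exact this
      rw [h4, hy4, hx4, mul_one, mul_one] at h
      rw [pow_two]; exact h.symm
    · -- `y` inverts `a`, so `y * y` centralises `x`
      have hy2 : x * (y * y) = (y * y) * x := by
        calc x * (y * y) = (x * y) * y := (mul_assoc _ _ _).symm
          _ = a * y * x * y := by rw [e]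
          _ = a * y * (x * y) := mul_assoc _ _ _
          _ = a * y * (a * y * x) := by rw [e]
          _ = a * (y * a) * y * x := by simp only [mul_assoc]
          _ = _ := by rw [hya]; group
      have e1 : (y * x) * (y * x) = a⁻¹ * (y * y) * (x * x) := by
        calc (y * x) * (y * x) = y * (x * y) * x := by simp only [mul_assoc]
          _ = (y * a) * y * x * x := by rw [e]; simp only [mul_assoc]
          _ = _ := by rw [hya]; simp only [mul_assoc]
      have hxy : x * x * (y * y) = (y * y) * (x * x) := by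
        rw [mul_assoc, hy2, ← mul_assoc, hy2, mul_assoc]
      have hyinv : y * a⁻¹ = a * y := by
        calc y * a⁻¹ = a * (a⁻¹ * y) * a⁻¹ := by group
          _ = _ := by rw [← hya]; group
      have hyy : (y * y) * a⁻¹ = a⁻¹ * (y * y) := by
        rw [mul_assoc, hyinv, ← mul_assoc, hya, mul_assoc]
      have hxinv : x * x * a⁻¹ = a⁻¹ * (x * x) := by
        calc x * x * a⁻¹ = a⁻¹ * (a * (x * x)) * a⁻¹ := by group
          _ = _ := by rw [← hxa']; group
      have h : (y * x) ^ 4 = a⁻¹ * a⁻¹ * ((y * y) * (y * y)) * ((x * x) * (x * x)) := by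
        calc (y * x) ^ 4 = ((y * x) * (y * x)) * ((y * x) * (y * x)) := by
              simp only [pow_succ, pow_zero, one_mul, mul_assoc]
          _ = a⁻¹ * (y * y) * ((x * x) * a⁻¹) * (y * y) * (x * x) := by
              rw [e1]; simp only [mul_assoc]
          _ = a⁻¹ * ((y * y) * a⁻¹) * ((x * x) * (y * y)) * (x * x) := by
              rw [hxinv]; simp only [mul_assoc]
          _ = _ := by rw [hyy, hxy]; simp only [mul_assoc]
      have hy4 : (y * y) * (y * y) = 1 := by
        have := h4 y; simp only [pow_succ, pow_zero, one_mul, mul_assoc] at this ⊢; exact this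
      have hx4 : (x * x) * (x * x) = 1 := by
        have := h4 x; simp only [pow_succ, pow_zero, one_mul, mul_assoc] at this ⊢; exact this
      rw [h4, hy4, hx4, mul_one, mul_one] at h
      rw [pow_two, ← inv_eq_one, mul_inv_rev]; exact h.symm
  by_contra ha
  rcases key ha hx with hx' | hx'
  · exact ha (main x y hx' (key ha hy))
  rcases key ha hy with hy' | hy'
  · -- exchange the two elements
    have e : ⁅y, x⁆ = ⁅x, y⁆⁻¹ := (commutatorElement_inv x y).symm
    refine ha ?_
    have := main y x ?_ ?_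
    · rw [e, inv_pow, inv_eq_one] at this; exact this
    · rw [e]; exact (Commute.inv_right (hy' : Commute y ⁅x, y⁆))
    · right
      rw [e, inv_inv]
      calc x * ⁅x, y⁆⁻¹ = ⁅x, y⁆ * (⁅x, y⁆⁻¹ * x) * ⁅x, y⁆⁻¹ := by group
        _ = _ := by rw [← hx']; group
  · -- replace `x` by `y * x`
    have e : ⁅y * x, y⁆ = ⁅x, y⁆⁻¹ := by
      calc ⁅y * x, y⁆ = y * ⁅x, y⁆ * y⁻¹ := by simp only [commutatorElement_def]; group
        _ = _ := by rw [hy']; group
    have hyi : y * ⁅x, y⁆⁻¹ = ⁅x, y⁆ * y := by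
      calc y * ⁅x, y⁆⁻¹ = ⁅x, y⁆ * (⁅x, y⁆⁻¹ * y) * ⁅x, y⁆⁻¹ := by group
        _ = _ := by rw [← hy']; group
    have hxi : x * ⁅x, y⁆⁻¹ = ⁅x, y⁆ * x := by
      calc x * ⁅x, y⁆⁻¹ = ⁅x, y⁆ * (⁅x, y⁆⁻¹ * x) * ⁅x, y⁆⁻¹ := by group
        _ = _ := by rw [← hx']; group
    have := main (y * x) y ?_ ?_
    · rw [e, inv_pow, inv_eq_one] at this; exact ha this
    · rw [e, mul_assoc, hxi, ← mul_assoc, hy', mul_assoc]
    · right; rw [e, inv_inv]; exact hyi

/-- A 2-group of symplectic type and exponent dividing four has class at most two. -/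
theorem commutator_le_center [Finite T] (hT : Cfsg.IsOfSymplecticType T) (h4 : ∀ t : T, t ^ 4 = 1) :
    commutator T ≤ center T := by
  classical
  have := Fact.mk Nat.prime_two
  have : Group.IsNilpotent T := hT.1.isNilpotent
  have hex : ∃ k, (⊤ : Subgroup T).lowerCentralSeries k ≤ center T := by
    obtain ⟨n, hn⟩ := Subgroup.nilpotent_iff_lowerCentralSeries.1 (inferInstance : Group.IsNilpotent T)
    exact ⟨n, hn ▸ bot_le⟩
  rw [← top_lowerCentralSeries_one]
  by_contra hne
  have hk := Nat.find_spec hex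
  obtain ⟨m, hm⟩ : ∃ m, Nat.find hex = m + 2 := by
    refine ⟨Nat.find hex - 2, ?_⟩
    have : ¬ Nat.find hex ≤ 1 := fun h => hne ((Subgroup.lowerCentralSeries_antitone _ h).trans hk)
    omega
  rw [hm, Subgroup.lowerCentralSeries_succ] at hk
  set N := (⊤ : Subgroup T).lowerCentralSeries (m + 1) with hN
  have hNle : N ≤ commutator T := by
    rw [← top_lowerCentralSeries_one]; exact Subgroup.lowerCentralSeries_antitone _ (by omega)
  have hNc : ⁅N, (⊤ : Subgroup T)⁆ ≤ center T := hk
  have h1 : ⁅⁅N, (⊤ : Subgroup T)⁆, (⊤ : Subgroup T)⁆ = ⊥ :=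
    commutator_eq_bot_iff_le_centralizer.2 (hNc.trans (center_le_centralizer _))
  have h2 : ⁅⁅(⊤ : Subgroup T), N⁆, (⊤ : Subgroup T)⁆ = ⊥ := by
    rw [commutator_comm (⊤ : Subgroup T) N]; exact h1
  have h3 : ⁅commutator T, N⁆ = ⊥ := by
    rw [commutator_def]; exact commutator_commutator_eq_bot_of_rotate h2 h1
  have hab : IsMulCommutative ↥N := ⟨⟨fun a b => Subtype.ext
    (commutator_eq_bot_iff_le_centralizer.1 h3 (hNle a.2) b b.2).symm⟩⟩
  have : IsCyclic ↥N := hT.2 N inferInstance hab
  obtain ⟨g, hg⟩ := IsCyclic.exists_generator (α := ↥N)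
  have hsub : ∀ c ∈ N, ∀ t : T, t * c * t⁻¹ ∈ zpowers c := by
    intro c hc t
    obtain ⟨j, hj⟩ := hg ⟨c, hc⟩
    obtain ⟨i, hi⟩ := hg ⟨t * g.1 * t⁻¹, (inferInstance : N.Normal).conj_mem _ g.2 t⟩
    refine ⟨i, ?_⟩
    have hj' : (g : T) ^ j = c := congrArg Subtype.val hj
    have hi' : (g : T) ^ i = t * g.1 * t⁻¹ := congrArg Subtype.val hi
    change c ^ i = t * c * t⁻¹
    rw [← hj', ← zpow_mul, mul_comm, zpow_mul, hi', conj_zpow]
  have hinv : ∀ c ∈ N, c ^ 2 = 1 := by
    let : CommGroup ↥N :=
      { (inferInstance : Group ↥N) with mul_comm := fun a b => hab.is_comm.comm a b }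
    have hle : N ≤ (powMonoidHom (α := ↥N) 2).ker.map N.subtype := by
      conv_lhs => rw [hN, Subgroup.lowerCentralSeries_succ]
      rw [commutator_le]
      intro u hu v _
      have huv : ⁅u, v⁆ ∈ N := by
        rw [hN, Subgroup.lowerCentralSeries_succ]; exact commutator_mem_commutator hu (mem_top v)
      exact ⟨⟨_, huv⟩, Subtype.ext (commutator_sq_eq_one h4 (hsub _ huv u) (hsub _ huv v)), rfl⟩
    intro c hc
    obtain ⟨c', hc', rfl⟩ := hle hc
    exact congrArg Subtype.val hc'
  have hNZ : N ≤ center T := by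
    intro c hc
    refine mem_center_iff.2 fun t => ?_
    obtain ⟨i, hi⟩ := hsub c hc t
    replace hi : c ^ i = t * c * t⁻¹ := hi
    rcases Int.even_or_odd' i with ⟨k, rfl | rfl⟩
    · rw [zpow_mul, zpow_two, ← pow_two, hinv c hc, one_zpow] at hi
      rw [conj_eq_one_iff.1 hi.symm, mul_one, one_mul]
    · rw [zpow_add_one, zpow_mul, zpow_two, ← pow_two, hinv c hc, one_zpow, one_mul] at hi
      exact (eq_mul_inv_iff_mul_eq.1 hi).symm
  exact Nat.find_min hex (show m + 1 < Nat.find hex by omega) hNZ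

/-- Squares and commutators of a symplectic-type group of exponent dividing four lie in `⟨z⟩`. -/
theorem exists_relations [Finite T] (hT : Cfsg.IsOfSymplecticType T) (h4 : ∀ t : T, t ^ 4 = 1)
    {z : T} (hz : z ∈ center T) (hz2 : z ^ 2 = 1) (hz1 : z ≠ 1) :
    (∀ x : T, x * x = 1 ∨ x * x = z) ∧ ∀ x y : T, ⁅x, y⁆ = 1 ∨ ⁅x, y⁆ = z := by
  have hcl := commutator_le_center hT h4
  have hc : ∀ x y : T, ⁅x, y⁆ ∈ center T := fun x y =>
    hcl (commutator_mem_commutator (mem_top x) (mem_top y))
  have huniq : ∀ c ∈ center T, c ^ 2 = 1 → c = 1 ∨ c = z := fun c hcc hc2 =>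
    or_iff_not_imp_left.2 fun h => eq_of_sq_eq_one hT hcc hz hc2 hz2 h hz1
  have hcsq : ∀ x y : T, ⁅x, y⁆ ^ 2 = 1 := fun x y => by
    refine commutator_sq_eq_one h4 ?_ ?_ <;>
      · rw [mem_center_iff.1 (hc x y), mul_inv_cancel_right]; exact mem_zpowers _
  refine ⟨fun x => ?_, fun x y => huniq _ (hc x y) (hcsq x y)⟩
  refine huniq _ (mem_center_iff.2 fun y => ?_) (by
    have := h4 x; simp only [pow_succ, pow_zero, one_mul, mul_assoc] at this ⊢; exact this)
  have e : x * y = ⁅x, y⁆ * y * x := by rw [commutatorElement_def]; group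
  have hcx : x * ⁅x, y⁆ = ⁅x, y⁆ * x := mem_center_iff.1 (hc x y) x
  symm
  calc x * x * y = x * (⁅x, y⁆ * y * x) := by rw [mul_assoc, e]
    _ = ⁅x, y⁆ * (x * y) * x := by simp only [← mul_assoc]; rw [hcx]
    _ = ⁅x, y⁆ ^ 2 * y * (x * x) := by rw [e, pow_two]; simp only [mul_assoc]
    _ = y * (x * x) := by rw [hcsq, one_mul]

end Cfsg.Agent.Symplectic
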