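/-
The generalized Fitting subgroup is self-centralising.
Main result: `centralizer_generalizedFitting_le`: `C_G(F*(G)) ≤ F*(G)`.
-/
import Cfsg.Agent.Lib.Symplectic.Basic

set_option autoImplicit false

namespace Cfsg.Agent.Symplectic

open Subgroup
open scoped commutatorElement

/-- `C_G(F*(G)) ≤ F*(G)` for a finite group. -/
theorem centralizer_generalizedFitting_le (G : Type*) [Group G] [Finite G] :
    centralizer (Cfsg.generalizedFittingSubgroup G : Set G) ≤ Cfsg.generalizedFittingSubgroup G := by
  set F := Cfsg.generalizedFittingSubgroup G with hF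
  haveI : F.Normal := generalizedFitting_normal G
  by_contra hCF
  obtain ⟨S, -, hS⟩ := exists_minimal_le_of_wellFoundedLT
    (P := fun S : Subgroup G => S.IsSubnormal ∧ centralizer (F : Set G) ⊓ F ≤ S ∧
      S ≤ centralizer (F : Set G) ∧ ¬ S ≤ F)
    (centralizer (F : Set G)) ⟨Subgroup.Normal.isSubnormal inferInstance, inf_le_left, le_rfl, hCF⟩
  obtain ⟨hsub, hZS, hSC, hSF⟩ := hS.1
  have hnn : ¬ Group.IsNilpotent ↥S := fun h =>
    hSF ((Cfsg.Agent.Cores.le_fittingSubgroup_of_isSubnormal hsub h).trans le_sup_right)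
  have hcent : ∀ N : Subgroup ↥S, N.map S.subtype ≤ F → N ≤ center ↥S := by
    intro N h n hn
    refine mem_center_iff.2 fun s => Subtype.ext ?_
    exact (hSC s.2 n.1 (h ⟨n, hn, rfl⟩)).symm
  have hnormal : ∀ N : Subgroup ↥S, N.Normal → center ↥S ≤ N → N = center ↥S ∨ N = ⊤ := by
    intro N hN hc
    by_cases h : N.map S.subtype ≤ F
    · exact Or.inl (le_antisymm (hcent N h) hc)
    · right
      have hle : S ≤ N.map S.subtype := by
        refine hS.2 ⟨(Subgroup.Normal.isSubnormal hN).trans' hsub, ?_, (map_subtype_le _).trans hSC, h⟩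
          (map_subtype_le _)
        intro x hx
        refine ⟨⟨x, hZS hx⟩, hc (mem_center_iff.2 fun s => Subtype.ext ?_), rfl⟩
        exact (hSC s.2 x hx.2).symm
      rw [eq_top_iff]
      intro s _
      obtain ⟨n, hn, e⟩ := hle s.2
      exact S.subtype_injective e ▸ hn
  have hna : ¬ IsMulCommutative (↥S ⧸ center ↥S) := by
    intro h
    apply hnn
    refine Group.of_quotient_center_nilpotent ?_
    letI : CommGroup (↥S ⧸ center ↥S) :=
      { (inferInstance : Group (↥S ⧸ center ↥S)) with mul_comm := fun a b => h.is_comm.comm a b }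
    infer_instance
  have hsimp : IsSimpleGroup (↥S ⧸ center ↥S) := by
    haveI : Nontrivial (↥S ⧸ center ↥S) := by
      rcases subsingleton_or_nontrivial (↥S ⧸ center ↥S) with h | h
      · exact absurd ⟨⟨fun a b => Subsingleton.elim _ _⟩⟩ hna
      · exact h
    refine ⟨fun N hN => ?_⟩
    rcases hnormal (N.comap (QuotientGroup.mk' _)) inferInstance
      (fun c hc => by
        rw [mem_comap, show QuotientGroup.mk' (center ↥S) c = 1 from (QuotientGroup.eq_one_iff c).2 hc]
        exact one_mem N) with h | h
    · left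
      rw [← map_comap_eq_self_of_surjective (QuotientGroup.mk'_surjective _) N, h, Subgroup.map_eq_bot_iff,
        QuotientGroup.ker_mk']
    · right
      rw [← map_comap_eq_self_of_surjective (QuotientGroup.mk'_surjective _) N, h,
        map_top_of_surjective _ (QuotientGroup.mk'_surjective _)]
  obtain ⟨-, hqs⟩ := Cfsg.Agent.Components.isQuasisimple_commutator hsimp hna
  have hcomp : Cfsg.IsComponent ((commutator ↥S).map S.subtype) :=
    ⟨(Subgroup.Normal.isSubnormal inferInstance).trans' hsub,
      (Cfsg.Agent.Components.isQuasisimple_map_iff S.subtype_injective _).2 hqs⟩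
  have hle : commutator ↥S ≤ center ↥S :=
    hcent _ ((Cfsg.Agent.Components.IsComponent.le_layer hcomp).trans le_sup_left)
  refine hna ⟨⟨fun a b => ?_⟩⟩
  obtain ⟨x, rfl⟩ := QuotientGroup.mk'_surjective (center ↥S) a
  obtain ⟨y, rfl⟩ := QuotientGroup.mk'_surjective (center ↥S) b
  rw [← commutatorElement_eq_one_iff_mul_comm, ← map_commutatorElement]
  exact (QuotientGroup.eq_one_iff _).2
    (hle (commutator_mem_commutator (mem_top x) (mem_top y)))

end Cfsg.Agent.Symplectic
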