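/-
Two commuting conjugate involutions, each with an exponent-four symplectic-type subgroup:
membership of the second in the subgroup of the first is a symmetric relation.
Main results: `FourData`, `eq_of_commute_centralizer`, `mem_of_mem`.
-/
import Cfsg.Agent.Lib.Symplectic.Basic

set_option autoImplicit false

namespace Cfsg.Agent.Symplectic

open Subgroup
open scoped commutatorElement

variable {G : Type*} [Group G]

/-- The properties of `F*(C(z))` of symplectic type and exponent four used below. -/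
structure FourData (z : G) (Q : Subgroup G) : Prop where
  self_mem : z ∈ Q
  self_sq : z * z = 1
  ne_one : z ≠ 1
  commute : ∀ q ∈ Q, q * z = z * q
  conj_mem : ∀ h : G, h * z = z * h → ∀ q ∈ Q, h * q * h⁻¹ ∈ Q
  self_cent : ∀ h : G, h * z = z * h → (∀ q ∈ Q, h * q = q * h) → h ∈ Q
  sq : ∀ q ∈ Q, q * q = 1 ∨ q * q = z
  comm : ∀ a ∈ Q, ∀ b ∈ Q, a * b = b * a ∨ a * b = z * b * a
  center : ∀ c ∈ Q, (∀ q ∈ Q, c * q = q * c) → c * c = 1 → c = 1 ∨ c = z

namespace FourData

variable {z w : G} {Q R : Subgroup G}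

/-- A noncentral element has a partner with commutator `z`. -/
theorem exists_swap (hQ : FourData z Q) (hw : w ∈ Q) (hw2 : w * w = 1) (hwz : w ≠ z) (hw1 : w ≠ 1) :
    ∃ q ∈ Q, q * w = z * w * q := by
  by_contra h
  push Not at h
  rcases hQ.center w hw (fun q hq => ((hQ.comm q hq w hw).resolve_right (h q hq)).symm) hw2 with e | e
  exacts [hw1 e, hwz e]

theorem inv_eq (hQ : FourData z Q) : z⁻¹ = z := inv_eq_of_mul_eq_one_right hQ.self_sq

/-- A square-one element of `Q` centralising `Q ∩ C(w)` lies in the four-group. -/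
theorem eq_of_commute_centralizer (hQ : FourData z Q) (hw : w ∈ Q) (hw2 : w * w = 1) {q d : G}
    (hq : q ∈ Q) (hqw : q * w = z * w * q) (hd : d ∈ Q) (hd2 : d * d = 1)
    (hdc : ∀ a ∈ Q, a * w = w * a → d * a = a * d) :
    d = 1 ∨ d = z ∨ d = w ∨ d = w * z := by
  have hdw : d * w = w * d := hdc w hw rfl
  -- commuting with `q` as well makes an element central
  have key : ∀ c : G, c ∈ Q → c * q = q * c → (∀ a ∈ Q, a * w = w * a → c * a = a * c) →
      ∀ a ∈ Q, c * a = a * c := by
    intro c _ hcq hcc a ha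
    rcases hQ.comm a ha w hw with e | e
    · exact hcc a ha e
    · have h1 : q⁻¹ * a * w = w * (q⁻¹ * a) := by
        calc q⁻¹ * a * w = q⁻¹ * (z * w * q) * (q⁻¹ * a) := by rw [mul_assoc, e]; group
          _ = q⁻¹ * (q * w) * (q⁻¹ * a) := by rw [hqw]
          _ = _ := by group
      have h2 := hcc _ (Q.mul_mem (Q.inv_mem hq) ha) h1
      calc c * a = (c * q) * (q⁻¹ * a) := by group
        _ = q * (c * (q⁻¹ * a)) := by rw [hcq, mul_assoc]
        _ = a * c := by rw [h2]; group
  rcases hQ.comm q hq d hd with e | e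
  · rcases hQ.center d hd (key d hd e.symm hdc) hd2 with h | h
    exacts [Or.inl h, Or.inr (Or.inl h)]
  · have hzd : z * d = d * z := (hQ.commute d hd).symm
    have hdq : d * w * q = q * (d * w) := by
      symm
      calc q * (d * w) = z * d * (q * w) := by rw [← mul_assoc, e]; group
        _ = d * (z * z) * w * q := by rw [hqw, hzd]; group
        _ = _ := by rw [hQ.self_sq]; group
    have hcc : ∀ a ∈ Q, a * w = w * a → d * w * a = a * (d * w) := by
      intro a ha haw
      rw [mul_assoc, ← haw, ← mul_assoc, hdc a ha haw, mul_assoc]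
    have hsq : d * w * (d * w) = 1 := by
      calc d * w * (d * w) = d * (w * d) * w := by group
        _ = (d * d) * (w * w) := by rw [← hdw]; group
        _ = 1 := by rw [hd2, hw2, one_mul]
    rcases hQ.center _ (Q.mul_mem hd hw) (key _ (Q.mul_mem hd hw) hdq hcc) hsq with h | h
    · right; right; left
      calc d = d * w * w := by rw [mul_assoc, hw2, mul_one]
        _ = w := by rw [h, one_mul]
    · right; right; right
      calc d = d * w * w := by rw [mul_assoc, hw2, mul_one]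
        _ = _ := by rw [h, hQ.commute w hw]

/-- If some element of `Q` has commutator or square `z` inside `C(w)`, and no element of `R` carries
`z` to `z * w`, then `z` lies in `R`. -/
theorem mem_of_not_swap (hQ : FourData z Q) (hR : FourData w R) (hw : w ∈ Q)
    (hx : ∀ x ∈ R, x * z * x⁻¹ ≠ z * w)
    (hab : (∃ a ∈ Q, a * w = w * a ∧ a * a = z) ∨
      ∃ a ∈ Q, ∃ b ∈ Q, a * w = w * a ∧ b * w = w * b ∧ a * b = z * b * a) :
    z ∈ R := by
  by_contra hzR
  have hzw : z * w = w * z := (hQ.commute w hw).symm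
  obtain ⟨q, hq, hqw⟩ := hQ.exists_swap hw hR.self_sq (fun e => hzR (e ▸ hR.self_mem)) hR.ne_one
  have hwc : ∀ r ∈ R, r * w = w * r := hR.commute
  -- the intersection of the two subgroups
  have hD : ∀ d ∈ Q, d ∈ R → d = 1 ∨ d = w := by
    intro d hdQ hdR
    have hd2 : d * d = 1 := by
      rcases hQ.sq d hdQ with h | h
      · exact h
      · exact absurd (h ▸ R.mul_mem hdR hdR) hzR
    rcases hQ.eq_of_commute_centralizer hw hR.self_sq hq hqw hdQ hd2 (fun a ha haw => by
        rcases hQ.comm d hdQ a ha with h | h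
        · exact h
        · refine absurd ?_ hzR
          rw [show z = d * (a * d⁻¹ * a⁻¹) by
            calc z = z * a * d * (d⁻¹ * a⁻¹) := by group
              _ = _ := by rw [← h]; group]
          exact R.mul_mem hdR (hR.conj_mem a haw _ (R.inv_mem hdR))) with h | h | h | h
    · exact Or.inl h
    · exact absurd (h ▸ hdR) hzR
    · exact Or.inr h
    · refine absurd ?_ hzR
      have hm := R.mul_mem (R.inv_mem hR.self_mem) (h ▸ hdR)
      rwa [inv_mul_cancel_left] at hm
  -- fixed points of `z` are the elements moved inside `⟨w⟩`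
  have hfix : ∀ y ∈ R, z * y * z⁻¹ = y ∨ z * y * z⁻¹ = w * y → y * z = z * y := by
    rintro y hy (h | h)
    · exact (mul_inv_eq_iff_eq_mul.1 h).symm
    · refine absurd ?_ (hx y hy)
      have h' : z * y = w * y * z := mul_inv_eq_iff_eq_mul.1 h
      calc y * z * y⁻¹ = w * (w * y * z) * y⁻¹ := by
            rw [← mul_assoc w, ← mul_assoc w w, hR.self_sq, one_mul]
        _ = w * z := by rw [← h']; group
        _ = z * w := hzw.symm
  have hwi : w⁻¹ = w := hR.inv_eq
  -- commutators inside `R`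
  obtain ⟨κ, hκ⟩ : ∃ κ : G → G → G, ∀ u v, κ u v = u * v * u⁻¹ * v⁻¹ := ⟨_, fun _ _ => rfl⟩
  have κw : ∀ u ∈ R, ∀ v ∈ R, κ u v = 1 ∨ κ u v = w := by
    intro u hu v hv
    rw [hκ]
    rcases hR.comm u hu v hv with e | e
    · left; rw [e]; group
    · right; rw [e]; group
  have κz : ∀ u ∈ R, ∀ v ∈ R, ∀ g : G, g * w = w * g →
      κ (g * u * g⁻¹) (g * v * g⁻¹) = κ u v := by
    intro u hu v hv g hg
    rw [show κ (g * u * g⁻¹) (g * v * g⁻¹) = g * κ u v * g⁻¹ by simp only [hκ]; group]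
    rcases κw u hu v hv with e | e <;> rw [e]
    · group
    · rw [hg, mul_inv_cancel_right]
  have κc : ∀ u ∈ R, ∀ v ∈ R, ∀ g ∈ R, g * κ u v = κ u v * g := by
    intro u hu v hv g hg
    rcases κw u hu v hv with e | e <;> rw [e]
    · rw [mul_one, one_mul]
    · exact hwc g hg
  have κl : ∀ u ∈ R, ∀ u' ∈ R, ∀ v ∈ R, κ (u * u') v = κ u v * κ u' v := by
    intro u hu u' hu' v hv
    calc κ (u * u') v = u * κ u' v * u⁻¹ * κ u v := by simp only [hκ]; group
      _ = κ u' v * κ u v := by rw [κc u' hu' v hv u hu, mul_inv_cancel_right]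
      _ = _ := by
          rcases κw u hu v hv with e | e <;> rcases κw u' hu' v hv with e' | e' <;>
            simp [e, e']
  have κr : ∀ u ∈ R, ∀ v ∈ R, ∀ v' ∈ R, κ u (v * v') = κ u v * κ u v' := by
    intro u hu v hv v' hv'
    calc κ u (v * v') = κ u v * (v * κ u v' * v⁻¹) := by simp only [hκ]; group
      _ = _ := by rw [κc u hu v' hv' v hv, mul_inv_cancel_right]
  have κone : ∀ u v, κ u v = 1 ↔ u * v = v * u := fun u v => by
    rw [hκ, mul_inv_eq_one, mul_inv_eq_iff_eq_mul]
  -- displacements under `z`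
  obtain ⟨t, ht⟩ : ∃ t : G → G, ∀ x, t x = z * x * z⁻¹ * x⁻¹ := ⟨_, fun _ => rfl⟩
  have htR : ∀ x ∈ R, t x ∈ R := fun x hxR =>
    ht x ▸ R.mul_mem (hR.conj_mem z hzw x hxR) (R.inv_mem hxR)
  have htinv : ∀ x, z * t x * z⁻¹ = (t x)⁻¹ := fun x => by
    rw [ht, hQ.inv_eq]
    calc z * (z * x * z * x⁻¹) * z = (z * z) * x * z * x⁻¹ * z := by group
      _ = _ := by rw [hQ.self_sq, mul_inv_rev, mul_inv_rev, mul_inv_rev, inv_inv, hQ.inv_eq]; group
  have htz : ∀ x ∈ R, t x * z = z * t x := by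
    intro x hxR
    refine hfix _ (htR x hxR) ?_
    rw [htinv]
    rcases hR.sq _ (htR x hxR) with h | h
    · exact Or.inl (inv_eq_of_mul_eq_one_right h)
    · right
      calc (t x)⁻¹ = (t x * t x)⁻¹ * t x := by group
        _ = _ := by rw [h, hwi]
  have ht2 : ∀ x ∈ R, t x * t x = 1 := by
    intro x hxR
    have h := htinv x
    rw [← htz x hxR, mul_inv_cancel_right] at h
    exact mul_eq_one_iff_eq_inv.2 h
  have hzx : ∀ x, z * x * z⁻¹ = t x * x := fun x => by rw [ht, inv_mul_cancel_right]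
  have hperp : ∀ y ∈ R, y * z = z * y → ∀ x ∈ R, y * t x = t x * y := by
    intro y hy hyz x hxR
    have hy' : z * y * z⁻¹ = y := by rw [← hyz, mul_inv_cancel_right]
    have h := κz y hy x hxR z hzw
    rw [hy', hzx, κr y hy _ (htR x hxR) x hxR, mul_eq_right] at h
    exact (κone _ _).1 h
  -- conversely, commuting with all displacements means being fixed
  have hperp' : ∀ y ∈ R, (∀ x ∈ R, y * t x = t x * y) → y * z = z * y := by
    intro y hy h
    apply hfix y hy
    have hs := htR y hy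
    rcases hR.center (t y) hs (fun x hxR => (κone _ _).1 (by
      have e := κz y hy x hxR z hzw
      rw [hzx, hzx, κl _ hs y hy _ (R.mul_mem (htR x hxR) hxR), κr _ hs _ (htR x hxR) x hxR,
        κr y hy _ (htR x hxR) x hxR, (κone (t y) (t x)).2 (hperp _ hs (htz y hy) x hxR),
        (κone y (t x)).2 (h x hxR), one_mul, one_mul, mul_eq_right] at e
      exact e)) (ht2 y hy) with e | e
    · left; rw [hzx, e, one_mul]
    · right; rw [hzx, e]
  -- the action of `Q ∩ C(w)`
  obtain ⟨τ, hτ⟩ : ∃ τ : G → G → G, ∀ a x, τ a x = a * x * a⁻¹ * x⁻¹ := ⟨_, fun _ _ => rfl⟩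
  have hτR : ∀ a, a * w = w * a → ∀ x ∈ R, τ a x ∈ R := fun a ha x hxR =>
    hτ a x ▸ R.mul_mem (hR.conj_mem a ha x hxR) (R.inv_mem hxR)
  have hquad : ∀ a ∈ Q, a * w = w * a → ∀ y ∈ R, y * z = z * y → τ a y = 1 ∨ τ a y = w := by
    intro a ha haw y hy hyz
    refine hD _ (hτ a y ▸ ?_) (hτR a haw y hy)
    have hm := Q.mul_mem ha (hQ.conj_mem y hyz _ (Q.inv_mem ha))
    simpa [mul_assoc] using hm
  have hτz : ∀ a ∈ Q, a * w = w * a → ∀ x ∈ R, τ a x * z = z * τ a x := by
    intro a ha haw x hxR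
    refine hperp' _ (hτR a haw x hxR) fun u hu => (κone _ _).1 ?_
    have ht' : t u ∈ R := htR u hu
    have hax : a * x * a⁻¹ ∈ R := hR.conj_mem a haw x hxR
    have hat : a * t u * a⁻¹ = τ a (t u) * t u := by rw [hτ]; group
    have e := κz x hxR (t u) ht' a haw
    rw [hat, κr _ hax _ (hτR a haw _ ht') _ ht'] at e
    have h1 : κ (a * x * a⁻¹) (τ a (t u)) = 1 := by
      rw [κone]
      rcases hquad a ha haw _ ht' (htz u hu) with h | h <;> rw [h]
      · rw [mul_one, one_mul]
      · exact hwc _ hax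
    rw [h1, one_mul] at e
    have e' : κ (τ a x) (t u) * κ x (t u) = κ x (t u) := by
      rw [← κl _ (hτR a haw x hxR) x hxR _ ht', hτ, inv_mul_cancel_right, e]
    exact mul_eq_right.1 e'
  -- composing two of them
  have hcomp : ∀ a ∈ Q, a * w = w * a → ∀ b ∈ Q, b * w = w * b → ∀ x ∈ R,
      a * (b * x * b⁻¹) * a⁻¹ = τ b x * τ a x * x ∨
        a * (b * x * b⁻¹) * a⁻¹ = w * (τ b x * τ a x * x) := by
    intro a ha haw b hb hbw x hxR
    have e : a * (b * x * b⁻¹) * a⁻¹ = τ a (τ b x) * (τ b x * τ a x * x) := by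
      simp only [hτ]; group
    rw [e]
    rcases hquad a ha haw _ (hτR b hbw x hxR) (hτz b hb hbw x hxR) with h | h <;> rw [h]
    · exact Or.inl (one_mul _)
    · exact Or.inr rfl
  have hfin : ∀ x ∈ R, z * x * z⁻¹ = x ∨ z * x * z⁻¹ = w * x := by
    intro x hxR
    rcases hab with ⟨a, ha, haw, ha2⟩ | ⟨a, ha, b, hb, haw, hbw, habz⟩
    · have e : z * x * z⁻¹ = a * (a * x * a⁻¹) * a⁻¹ := by rw [← ha2]; group
      rw [e]
      rcases hcomp a ha haw a ha haw x hxR with h | h <;> rw [h]
      · rcases hR.sq _ (hτR a haw x hxR) with h' | h' <;> rw [h']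
        · exact Or.inl (one_mul _)
        · exact Or.inr rfl
      · rcases hR.sq _ (hτR a haw x hxR) with h' | h' <;> rw [h']
        · exact Or.inr (by rw [one_mul])
        · exact Or.inl (by rw [← mul_assoc, hR.self_sq, one_mul])
    · -- apply the two orders to `x' = (b * a)⁻¹ x (b * a)`
      have hbaw : (b * a)⁻¹ * w = w * (b * a)⁻¹ := by
        have h1 : b * a * w = w * (b * a) := by rw [mul_assoc, haw, ← mul_assoc, hbw, mul_assoc]
        calc (b * a)⁻¹ * w = (b * a)⁻¹ * (w * (b * a)) * (b * a)⁻¹ := by group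
          _ = _ := by rw [← h1]; group
      obtain ⟨x', hx', hx'R⟩ : ∃ x', x' = (b * a)⁻¹ * x * (b * a) ∧ x' ∈ R :=
        ⟨_, rfl, by simpa using hR.conj_mem (b * a)⁻¹ hbaw x hxR⟩
      have e1 : b * (a * x' * a⁻¹) * b⁻¹ = x := by rw [hx']; group
      have e2 : z * x * z⁻¹ = a * (b * x' * b⁻¹) * a⁻¹ := by
        calc z * x * z⁻¹ = (z * b * a) * x' * (z * b * a)⁻¹ := by rw [hx']; group
          _ = _ := by rw [← habz]; group
      rw [e2]
      have h1 := hcomp b hb hbw a ha haw x' hx'R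
      rw [e1] at h1
      have h3 : ∀ u ∈ R, ∀ v ∈ R, ∀ c : G, u * v * c = v * u * c ∨ u * v * c = w * (v * u * c) := by
        intro u hu v hv c
        rcases hR.comm u hu v hv with e | e <;> rw [e]
        · exact Or.inl rfl
        · exact Or.inr (by simp only [mul_assoc])
      have h4 := h3 _ (hτR b hbw x' hx'R) _ (hτR a haw x' hx'R) x'
      rcases hcomp a ha haw b hb hbw x' hx'R with h2 | h2 <;> rw [h2] <;>
        rcases h1 with h1 | h1 <;> rw [h1] <;>
        rcases h4 with h4 | h4 <;> rw [h4] <;>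
        simp only [← mul_assoc w w, hR.self_sq, one_mul, true_or, or_true]
  exact hzR (hR.self_cent z hzw fun x hxR => (hfix x hxR (hfin x hxR)).symm)

/-- In the remaining case the subgroup is small and the whole centraliser is a 2-group. -/
theorem isPGroup_of_elementary (hQ : FourData z Q) (hw : w ∈ Q) (hw2 : w * w = 1) (hwz : w ≠ z)
    (hw1 : w ≠ 1) (hsq : ∀ a ∈ Q, a * w = w * a → a * a = 1)
    (hcom : ∀ a ∈ Q, ∀ b ∈ Q, a * w = w * a → b * w = w * b → a * b = b * a) :
    IsPGroup 2 ↥(centralizer ({z} : Set G)) := by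
  obtain ⟨q₀, hq₀, hq₀w⟩ := hQ.exists_swap hw hw2 hwz hw1
  have hzw : z * w = w * z := (hQ.commute w hw).symm
  have hE : ∀ a ∈ Q, a * w = w * a → a = 1 ∨ a = z ∨ a = w ∨ a = w * z := fun a ha haw =>
    hQ.eq_of_commute_centralizer hw hw2 hq₀ hq₀w ha (hsq a ha haw) fun b hb hbw =>
      hcom a ha b hb haw hbw
  obtain ⟨q, hq, hqw, hq2⟩ : ∃ q ∈ Q, q * w = z * w * q ∧ q * q = z := by
    rcases hQ.sq q₀ hq₀ with h | h
    · refine ⟨q₀ * w, Q.mul_mem hq₀ hw, ?_, ?_⟩
      · rw [hq₀w]; simp only [mul_assoc]; rw [hq₀w]; simp only [mul_assoc]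
      · calc q₀ * w * (q₀ * w) = z * w * (q₀ * q₀) * w := by
              nth_rw 1 [hq₀w]; simp only [mul_assoc]
          _ = _ := by rw [h, mul_one, mul_assoc, hw2, mul_one]
    · exact ⟨q₀, hq₀, hq₀w, h⟩
  have hcover : ∀ a ∈ Q, a * w = w * a ∨ (q⁻¹ * a) * w = w * (q⁻¹ * a) := by
    intro a ha
    refine (hQ.comm a ha w hw).imp_right fun e => ?_
    calc q⁻¹ * a * w = q⁻¹ * (z * w * q) * (q⁻¹ * a) := by rw [mul_assoc, e]; group
      _ = q⁻¹ * (q * w) * (q⁻¹ * a) := by rw [hqw]
      _ = _ := by group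
  have hqz : q * z = z * q := hQ.commute q hq
  have hzz := hQ.self_sq
  have hqwsq : q * w * (q * w) = 1 := by
    calc q * w * (q * w) = z * w * (q * q) * w := by nth_rw 1 [hqw]; simp only [mul_assoc]
      _ = z * (w * z) * w := by rw [hq2]; simp only [mul_assoc]
      _ = _ := by rw [← hzw, ← mul_assoc, hzz, one_mul, hw2]
  have hsqz : ∀ a ∈ Q, a * a = z → a = q ∨ a = q * z := by
    intro a ha ha2
    rcases hcover a ha with e | e
    · exact absurd ((hsq a ha e).symm.trans ha2).symm hQ.ne_one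
    · rcases hE _ (Q.mul_mem (Q.inv_mem hq) ha) e with h | h | h | h <;>
        rw [inv_mul_eq_iff_eq_mul] at h
      · left; rw [h, mul_one]
      · exact Or.inr h
      · refine absurd ?_ hQ.ne_one
        rw [← ha2, h, hqwsq]
      · refine absurd ?_ hQ.ne_one
        rw [← ha2, h]
        calc q * (w * z) * (q * (w * z)) = q * w * (z * q) * w * z := by simp only [mul_assoc]
          _ = q * w * q * (z * w) * z := by rw [← hqz]; simp only [mul_assoc]
          _ = q * w * (q * w) * (z * z) := by rw [hzw]; simp only [mul_assoc]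
          _ = 1 := by rw [hqwsq, hzz, mul_one]
  have hwim : ∀ a ∈ Q, a * a = 1 → a ≠ 1 → a ≠ z →
      a = w ∨ a = w * z ∨ a = q * w ∨ a = q * (w * z) := by
    intro a ha ha2 ha1 haz
    rcases hcover a ha with e | e
    · rcases hE a ha e with h | h | h | h
      exacts [absurd h ha1, absurd h haz, Or.inl h, Or.inr (Or.inl h)]
    · rcases hE _ (Q.mul_mem (Q.inv_mem hq) ha) e with h | h | h | h <;>
        rw [inv_mul_eq_iff_eq_mul] at h
      · exact absurd (by rw [← hq2, ← ha2, h, mul_one]) hQ.ne_one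
      · refine absurd ?_ hQ.ne_one
        calc z = (q * q) * (z * z) := by rw [hq2, hzz, mul_one]
          _ = (q * z) * (q * z) := by
              conv_rhs => rw [mul_assoc, ← mul_assoc z, ← hqz]
              simp only [mul_assoc]
          _ = 1 := by rw [← h, ha2]
      · exact Or.inr (Or.inr (Or.inl h))
      · exact Or.inr (Or.inr (Or.inr h))
  intro h
  refine ⟨4, Subtype.ext ?_⟩
  rw [SubmonoidClass.coe_pow, OneMemClass.coe_one]
  have hh : (h : G) * z = z * h := mem_centralizer_singleton_iff.1 h.2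
  generalize (h : G) = c at hh
  obtain ⟨φ, hφ⟩ : ∃ φ : G →* G, ∀ g, φ g = c * g * c⁻¹ := ⟨(MulAut.conj c).toMonoidHom, fun _ => rfl⟩
  have hφz : φ z = z := by rw [hφ, hh, mul_inv_cancel_right]
  have hφQ : ∀ a ∈ Q, φ a ∈ Q := fun a ha => hφ a ▸ hQ.conj_mem c hh a ha
  have hinj : ∀ a b, φ a = φ b → a = b := fun a b e => by simpa [hφ] using e
  have hφq : φ q = q ∨ φ q = q * z := hsqz _ (hφQ q hq) (by rw [← map_mul, hq2, hφz])
  have hφq2 : φ (φ q) = q := by
    rcases hφq with e | e
    · rw [e, e]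
    · rw [e, map_mul, e, hφz, mul_assoc, hzz, mul_one]
  -- the second square of the action fixes `w` modulo `z`
  have step : φ (φ w) = w ∨ φ (φ w) = w * z := by
    have hne1 : φ w ≠ 1 := fun e => hw1 (hinj _ _ (e.trans (map_one φ).symm))
    have hnez : φ w ≠ z := fun e => hwz (hinj _ _ (e.trans hφz.symm))
    have hqqw : q * (q * w) = w * z := by rw [← mul_assoc, hq2, hzw]
    have hqqwz : q * (q * (w * z)) = w := by
      rw [← mul_assoc, hq2, ← mul_assoc, hzw, mul_assoc, hzz, mul_one]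
    have hqzqw : q * z * (q * w) = w := by
      rw [hqz, mul_assoc, hqqw, ← mul_assoc, hzw, mul_assoc, hzz, mul_one]
    have hqzqwz : q * z * (q * (w * z)) = w * z := by
      rw [hqz, mul_assoc, hqqwz, hzw]
    rcases hwim _ (hφQ w hw) (by rw [← map_mul, hw2, map_one]) hne1 hnez with e | e | e | e
    · left; rw [e, e]
    · left; rw [e, map_mul, e, hφz, mul_assoc, hzz, mul_one]
    · rcases hφq with e' | e' <;> rw [e, map_mul, e, e', ]
      · exact Or.inr hqqw
      · exact Or.inl hqzqw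
    · have hwzz : q * (w * z) * z = q * w := by rw [mul_assoc, mul_assoc, hzz, mul_one]
      rcases hφq with e' | e' <;> rw [e, map_mul, map_mul, hφz, e, e', hwzz]
      · exact Or.inr hqqw
      · exact Or.inl hqzqw
  have hφw4 : φ (φ (φ (φ w))) = w := by
    rcases step with e | e
    · rw [e, e]
    · rw [e, map_mul, map_mul, hφz, hφz, e, mul_assoc, hzz, mul_one]
  have hc4 : ∀ a, a * c ^ 4 = c ^ 4 * a ↔ φ (φ (φ (φ a))) = a := by
    intro a
    have e : φ (φ (φ (φ a))) = c ^ 4 * a * (c ^ 4)⁻¹ := by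
      simp only [hφ, pow_succ, pow_zero, one_mul, mul_inv_rev, mul_assoc]
    rw [e, mul_inv_eq_iff_eq_mul]
    exact eq_comm
  have hcq : q * c ^ 4 = c ^ 4 * q := (hc4 q).2 (by rw [hφq2, hφq2])
  have hcw : w * c ^ 4 = c ^ 4 * w := (hc4 w).2 hφw4
  have hcz : z * c ^ 4 = c ^ 4 * z := (hc4 z).2 (by rw [hφz, hφz, hφz, hφz])
  have hE4 : ∀ a ∈ Q, a * w = w * a → c ^ 4 * a = a * c ^ 4 := by
    intro a ha haw
    rcases hE a ha haw with rfl | rfl | rfl | rfl
    · rw [mul_one, one_mul]
    · exact hcz.symm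
    · exact hcw.symm
    · rw [← mul_assoc, ← hcw, mul_assoc, ← hcz, ← mul_assoc]
  have hmem : c ^ 4 ∈ Q := by
    refine hQ.self_cent _ hcz.symm fun a ha => ?_
    rcases hcover a ha with e | e
    · exact hE4 a ha e
    · have h' := hE4 _ (Q.mul_mem (Q.inv_mem hq) ha) e
      calc c ^ 4 * a = (c ^ 4 * q) * (q⁻¹ * a) := by group
        _ = q * (c ^ 4 * (q⁻¹ * a)) := by rw [← hcq, mul_assoc]
        _ = a * c ^ 4 := by rw [h']; group
  rcases hQ.sq _ hmem with e | e
  · rw [show (2 : ℕ) ^ 4 = 4 + 4 + (4 + 4) by norm_num, pow_add, pow_add, e, one_mul]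
  · rw [show (2 : ℕ) ^ 4 = 4 + 4 + (4 + 4) by norm_num, pow_add, pow_add, e, hzz]

end FourData

end Cfsg.Agent.Symplectic
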