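/-
`F*(C(z))` of symplectic type and exponent four satisfies `FourData`; the symmetry lemma.
Main results: `fourData_fstar`, `conj_fstar`, `mem_fstar_conj`.
-/
import Cfsg.Agent.Lib.Symplectic.ExpFour
import Cfsg.Agent.Lib.Symplectic.Symmetric
import Cfsg.Agent.Lib.Symplectic.GFit

set_option autoImplicit false

namespace Cfsg.Agent.Symplectic

open Subgroup
open scoped commutatorElement

variable {G : Type*} [Group G]

theorem generalizedFitting_map_equiv {A B : Type*} [Group A] [Group B] (e : A ≃* B) :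
    (Cfsg.generalizedFittingSubgroup A).map e.toMonoidHom = Cfsg.generalizedFittingSubgroup B := by
  simp only [Cfsg.generalizedFittingSubgroup, Subgroup.map_sup,
    Cfsg.Agent.Components.layer_map_equiv, Cfsg.Agent.Cores.fittingSubgroup_map_mulEquiv]

theorem map_conj_fstar (z g : G) :
    (fstar z).map (MulAut.conj g).toMonoidHom = fstar (g * z * g⁻¹) := by
  have h : (centralizer ({z} : Set G)).map (MulAut.conj g).toMonoidHom =
      centralizer ({g * z * g⁻¹} : Set G) := by
    ext x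
    simp only [mem_map, MulEquiv.coe_toMonoidHom, MulAut.conj_apply, mem_centralizer_singleton_iff]
    refine ⟨?_, fun hx => ⟨g⁻¹ * x * g, ?_, by group⟩⟩
    · rintro ⟨y, hy, rfl⟩
      calc g * y * g⁻¹ * (g * z * g⁻¹) = g * (y * z) * g⁻¹ := by group
        _ = _ := by rw [hy]; group
    · calc g⁻¹ * x * g * z = g⁻¹ * (x * (g * z * g⁻¹)) * g := by group
        _ = _ := by rw [hx]; group
  let e : ↥(centralizer ({z} : Set G)) ≃* ↥(centralizer ({g * z * g⁻¹} : Set G)) :=
    ((MulAut.conj g).subgroupMap _).trans (MulEquiv.subgroupCongr h)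
  unfold fstar
  rw [← generalizedFitting_map_equiv e, map_map, map_map]
  rfl

theorem fourData_fstar [Finite G] {z : G} (hz : orderOf z = 2)
    (hQ : Cfsg.IsOfSymplecticType ↥(Cfsg.generalizedFittingSubgroup ↥(centralizer ({z} : Set G))))
    (h4 : ∀ q ∈ fstar z, q ^ 4 = 1) : FourData z (fstar z) := by
  obtain ⟨F, hF⟩ : ∃ F, F = Cfsg.generalizedFittingSubgroup ↥(centralizer ({z} : Set G)) := ⟨_, rfl⟩
  have : F.Normal := hF ▸ generalizedFitting_normal _
  have hQ' : Cfsg.IsOfSymplecticType ↥F := by rw [hF]; exact hQ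
  have hfs : fstar z = F.map (centralizer ({z} : Set G)).subtype := by rw [fstar, hF]
  have hFC : centralizer (F : Set ↥(centralizer ({z} : Set G))) ≤ F :=
    hF ▸ centralizer_generalizedFitting_le _
  have hzz : z * z = 1 := by rw [← pow_two, ← hz]; exact pow_orderOf_eq_one z
  have hz1 : z ≠ 1 := fun h => by rw [h, orderOf_one] at hz; norm_num at hz
  have hmem : ∀ q : ↥F, ((q.1 : G)) ∈ fstar z := fun q => hfs ▸ mem_map_of_mem _ q.2
  have hget : ∀ q ∈ fstar z, ∃ q' : ↥F, (q'.1 : G) = q := fun q hq => by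
    rw [hfs] at hq; obtain ⟨x, hx, rfl⟩ := hq; exact ⟨⟨x, hx⟩, rfl⟩
  have hzF : (⟨z, mem_centralizer_singleton_iff.2 rfl⟩ : ↥(centralizer ({z} : Set G))) ∈ F :=
    hF ▸ center_le_generalizedFitting _ (self_mem_center z)
  obtain ⟨zF, hzFe⟩ : ∃ zF : ↥F, (zF.1 : G) = z := ⟨⟨_, hzF⟩, rfl⟩
  have hinj : ∀ a b : ↥F, (a.1 : G) = (b.1 : G) → a = b := fun a b h => Subtype.ext (Subtype.ext h)
  have hzc : zF ∈ center ↥F := mem_center_iff.2 fun q => hinj _ _ (by
    simp only [Subgroup.coe_mul, hzFe]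
    exact mem_centralizer_singleton_iff.1 q.1.2)
  obtain ⟨hsq, hcomm⟩ := exists_relations hQ' (fun t => hinj _ _ (by
      simp only [SubmonoidClass.coe_pow, OneMemClass.coe_one]; exact h4 _ (hmem t)))
    hzc (hinj _ _ (by simp [hzFe, pow_two, hzz]))
    (fun h => hz1 (by rw [← hzFe, h]; rfl))
  refine ⟨mem_fstar z, hzz, hz1, fun q hq => commute_of_mem_fstar hq, ?_, ?_, ?_, ?_, ?_⟩
  · intro h hh q hq
    obtain ⟨q', rfl⟩ := hget q hq
    have hn := (inferInstance : F.Normal).conj_mem q'.1 q'.2 ⟨h, mem_centralizer_singleton_iff.2 hh⟩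
    exact hmem ⟨_, hn⟩
  · intro h hh hc
    refine hmem ⟨⟨h, mem_centralizer_singleton_iff.2 hh⟩, hFC fun q hq => Subtype.ext ?_⟩
    exact (hc _ (hmem ⟨q, hq⟩)).symm
  · intro q hq
    obtain ⟨q', rfl⟩ := hget q hq
    exact (hsq q').imp (fun e => by simpa using congrArg (fun t : ↥F => (t.1 : G)) e)
      (fun e => by simpa [hzFe] using congrArg (fun t : ↥F => (t.1 : G)) e)
  · intro a ha b hb
    obtain ⟨a', rfl⟩ := hget a ha
    obtain ⟨b', rfl⟩ := hget b hb
    refine (hcomm a' b').imp (fun e => ?_) (fun e => ?_)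
    · simpa using congrArg (fun t : ↥F => (t.1 : G)) (commutatorElement_eq_one_iff_mul_comm.1 e)
    · have e' : a' * b' = zF * b' * a' := by rw [← e, commutatorElement_def]; group
      simpa [hzFe] using congrArg (fun t : ↥F => (t.1 : G)) e'
  · intro c hc hcc hc2
    obtain ⟨c', rfl⟩ := hget c hc
    by_cases h1 : c' = 1
    · left; rw [h1]; rfl
    right
    rw [eq_of_sq_eq_one hQ' (mem_center_iff.2 fun q => hinj _ _ (by
        simp only [Subgroup.coe_mul]; exact (hcc _ (hmem q)).symm)) hzc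
      (hinj _ _ (by simpa [pow_two] using hc2)) (hinj _ _ (by simp [hzFe, pow_two, hzz])) h1
      (fun h => hz1 (by rw [← hzFe, h]; rfl)), hzFe]

/-- `z^g ∈ F*(C(z))` gives `z ∈ F*(C(z^g))`. -/
theorem mem_fstar_conj [Finite G] {z : G} (hQ : FourData z (fstar z)) {g : G}
    (hR : FourData (g * z * g⁻¹) (fstar (g * z * g⁻¹))) (hne : g * z * g⁻¹ ≠ z)
    (hw : g * z * g⁻¹ ∈ fstar z) : z ∈ fstar (g * z * g⁻¹) := by
  obtain ⟨w, hwdef⟩ : ∃ w, w = g * z * g⁻¹ := ⟨_, rfl⟩
  rw [← hwdef] at hR hne hw ⊢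
  have hzw : z * w = w * z := (hQ.commute w hw).symm
  by_cases hx : ∃ x ∈ fstar w, x * z * x⁻¹ = z * w
  · obtain ⟨x, hx, hxz⟩ := hx
    obtain ⟨q, hq, hqw⟩ := hQ.exists_swap hw hR.self_sq hne hR.ne_one
    have h1 : w ∈ fstar (z * w) := by
      rw [← hxz, ← map_conj_fstar]
      exact ⟨w, hw, by simp [hR.commute x hx]⟩
    have h2 : z * w ∈ fstar w := by
      have e : q * (z * w) * q⁻¹ = w := by
        calc q * (z * w) * q⁻¹ = (q * z) * w * q⁻¹ := by group
          _ = z * (q * w) * q⁻¹ := by rw [hQ.commute q hq]; group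
          _ = z * z * w := by rw [hqw]; group
          _ = w := by rw [hQ.self_sq, one_mul]
      rw [show fstar w = (fstar (z * w)).map (MulAut.conj q).toMonoidHom by rw [map_conj_fstar, e]]
      exact ⟨w, h1, by simp [hqw]⟩
    have h := (fstar w).mul_mem h2 hR.self_mem
    rwa [mul_assoc, hR.self_sq, mul_one] at h
  push Not at hx
  by_cases hab : (∃ a ∈ fstar z, a * w = w * a ∧ a * a = z) ∨
      ∃ a ∈ fstar z, ∃ b ∈ fstar z, a * w = w * a ∧ b * w = w * b ∧ a * b = z * b * a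
  · exact hQ.mem_of_not_swap hR hw hx hab
  push Not at hab
  have hP : IsPGroup 2 ↥(centralizer ({z} : Set G)) := hQ.isPGroup_of_elementary hw hR.self_sq hne
    hR.ne_one (fun a ha haw => (hQ.sq a ha).resolve_right (hab.1 a ha haw))
    (fun a ha b hb haw hbw => (hQ.comm a ha b hb).resolve_right (hab.2 a ha b hb haw hbw))
  have := Fact.mk Nat.prime_two
  have := hP.isNilpotent
  have htop : Cfsg.generalizedFittingSubgroup ↥(centralizer ({z} : Set G)) = ⊤ :=
    top_unique ((Cfsg.Agent.Cores.fittingSubgroup_eq_top_iff.2 inferInstance).ge.trans le_sup_right)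
  have hall : fstar z = centralizer ({z} : Set G) := by
    rw [fstar, htop, ← MonoidHom.range_eq_map, range_subtype]
  rw [hwdef, ← map_conj_fstar, hall]
  refine ⟨g⁻¹ * z * g, mem_centralizer_singleton_iff.2 ?_, by simp [mul_assoc]⟩
  calc g⁻¹ * z * g * z = g⁻¹ * (z * (g * z * g⁻¹)) * g := by group
    _ = g⁻¹ * (g * z * g⁻¹ * z) * g := by rw [← hwdef, hzw]
    _ = _ := by group

end Cfsg.Agent.Symplectic
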