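/-
Duality in an extraspecial 2-group, proved by counting.
Main results: `card_centralizer_mul`: `|C(W)| |W| = 2 |T|` for `Z(T) ≤ W`;
`centralizer_centralizer`: `C(C(W)) = W`.
-/
import Cfsg.Agent.Lib.PGroup.Basic

set_option autoImplicit false

namespace Cfsg.Agent.Symplectic

open Subgroup
open scoped commutatorElement

variable {T : Type*} [Group T] [Finite T]

theorem normal_of_center_le (hT : Cfsg.IsExtraspecial 2 T) {W : Subgroup T} (hW : center T ≤ W) :
    W.Normal := by
  refine ⟨fun w hw g => ?_⟩
  have h : ⁅g, w⁆ ∈ W := hW (hT.1.2.2 ▸ commutator_mem_commutator (mem_top g) (mem_top w))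
  simpa [commutatorElement_def] using W.mul_mem h hw

theorem sq_mem_center (hT : Cfsg.IsExtraspecial 2 T) (x : T) : x * x ∈ center T := by
  rw [← hT.1.2.1, ← pow_two]
  haveI := Fact.mk Nat.prime_two
  exact Cfsg.Agent.PGroup.pow_mem_frattini hT.1.1 x

/-- The centraliser of one element has at most two cosets in any subgroup. -/
theorem card_le_two_mul (hT : Cfsg.IsExtraspecial 2 T) (U : Subgroup T) (x : T) :
    Nat.card ↥U ≤ 2 * Nat.card ↥(U ⊓ centralizer ({x} : Set T)) := by
  have hc : ∀ u : T, ⁅u, x⁆ ∈ center T := fun u =>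
    hT.1.2.2 ▸ commutator_mem_commutator (mem_top u) (mem_top x)
  let f : ↥U →* ↥(center T) :=
    { toFun := fun u => ⟨⁅(u : T), x⁆, hc u⟩
      map_one' := Subtype.ext (by simp)
      map_mul' := fun u v => Subtype.ext (by
        change ⁅(u : T) * v, x⁆ = ⁅(u : T), x⁆ * ⁅(v : T), x⁆
        have h := mem_center_iff.1 (hc v) (u : T)
        calc ⁅(u : T) * v, x⁆ = u * ⁅(v : T), x⁆ * (x * (u : T)⁻¹ * x⁻¹) := by
              simp only [commutatorElement_def]; group
          _ = ⁅(v : T), x⁆ * ⁅(u : T), x⁆ := by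
              rw [h]; simp only [commutatorElement_def]; group
          _ = _ := (mem_center_iff.1 (hc v) _).symm) }
  have hker : Nat.card ↥f.ker ≤ Nat.card ↥(U ⊓ centralizer ({x} : Set T)) := by
    refine Nat.card_le_card_of_injective (fun u => ⟨(u.1 : T), u.1.2, ?_⟩)
      (fun a b h => Subtype.ext (Subtype.ext (congrArg Subtype.val h :)))
    have h : ⁅(u.1 : T), x⁆ = 1 := congrArg Subtype.val u.2
    exact mem_centralizer_singleton_iff.2 (commutatorElement_eq_one_iff_mul_comm.1 h)
  have hrange : Nat.card ↥f.range ≤ 2 := hT.2 ▸ card_le_card_group f.range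
  calc Nat.card ↥U = Nat.card ↥f.ker * Nat.card ↥f.range := by
        rw [← card_mul_index f.ker, index_ker]
    _ ≤ _ := by rw [mul_comm 2]; exact Nat.mul_le_mul hker hrange

theorem centralizer_sup_zpowers (W : Subgroup T) (x : T) :
    centralizer ((W ⊔ zpowers x : Subgroup T) : Set T) =
      centralizer (W : Set T) ⊓ centralizer ({x} : Set T) := by
  refine le_antisymm (fun c hc => ⟨fun w hw => hc w (mem_sup_left hw),
    mem_centralizer_singleton_iff.2 (hc x (mem_sup_right (mem_zpowers x))).symm⟩) ?_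
  rintro c ⟨hc1, hc2⟩
  have hle : W ⊔ zpowers x ≤ centralizer ({c} : Set T) :=
    sup_le (fun w hw => mem_centralizer_singleton_iff.2 (hc1 w hw))
      (zpowers_le.2 (mem_centralizer_singleton_iff.2 (mem_centralizer_singleton_iff.1 hc2).symm))
  exact fun w hw => mem_centralizer_singleton_iff.1 (hle hw)

/-- Adjoining an element never decreases `|C(W)| |W|`. -/
theorem card_mul_le_sup (hT : Cfsg.IsExtraspecial 2 T) {W : Subgroup T} {x : T} (hx : x ∉ W) :
    Nat.card ↥(centralizer (W : Set T)) * Nat.card ↥W ≤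
      Nat.card ↥(centralizer ((W ⊔ zpowers x : Subgroup T) : Set T)) *
        Nat.card ↥(W ⊔ zpowers x) := by
  haveI := Fact.mk Nat.prime_two
  obtain ⟨n, hn⟩ := IsPGroup.iff_card.1 (hT.1.1.to_subgroup W)
  obtain ⟨m, hm⟩ := IsPGroup.iff_card.1 (hT.1.1.to_subgroup (W ⊔ zpowers x))
  have h2 : 2 * Nat.card ↥W ≤ Nat.card ↥(W ⊔ zpowers x) := by
    have hlt : Nat.card ↥W < Nat.card ↥(W ⊔ zpowers x) := by
      refine lt_of_le_of_ne (card_le_of_le le_sup_left) fun h => hx ?_
      have e : W = W ⊔ zpowers x := eq_of_le_of_card_ge le_sup_left h.ge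
      rw [e]; exact mem_sup_right (mem_zpowers x)
    rw [hn, hm] at hlt ⊢
    rw [← pow_succ']
    exact Nat.pow_le_pow_right (by norm_num) ((Nat.pow_lt_pow_iff_right (by norm_num)).1 hlt)
  have h1 := card_le_two_mul hT (centralizer (W : Set T)) x
  rw [← centralizer_sup_zpowers] at h1
  calc _ ≤ 2 * Nat.card ↥(centralizer ((W ⊔ zpowers x : Subgroup T) : Set T)) * Nat.card ↥W :=
        Nat.mul_le_mul_right _ h1
    _ ≤ _ := by rw [mul_comm 2, mul_assoc]; exact Nat.mul_le_mul_left _ h2

/-- `|C(W)| |W| = 2 |T|` for a subgroup containing the centre. -/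
theorem card_centralizer_mul (hT : Cfsg.IsExtraspecial 2 T) {W : Subgroup T} (hW : center T ≤ W) :
    Nat.card ↥(centralizer (W : Set T)) * Nat.card ↥W = 2 * Nat.card T := by
  have htop : Nat.card ↥(centralizer ((⊤ : Subgroup T) : Set T)) * Nat.card ↥(⊤ : Subgroup T) =
      2 * Nat.card T := by
    rw [coe_top, centralizer_univ, hT.2, card_top]
  have hbot : Nat.card ↥(centralizer ((center T : Subgroup T) : Set T)) * Nat.card ↥(center T) =
      2 * Nat.card T := by
    rw [centralizer_center, card_top, hT.2, mul_comm]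
  have upper : ∀ (n : ℕ) (W : Subgroup T), center T ≤ W → Nat.card T - Nat.card ↥W ≤ n →
      Nat.card ↥(centralizer (W : Set T)) * Nat.card ↥W ≤ 2 * Nat.card T := by
    intro n
    induction n with
    | zero =>
      intro W _ h
      have hWt : W = ⊤ := eq_top_of_le_card W (by omega)
      exact hWt ▸ htop.le
    | succ n ih =>
      intro W hW h
      by_cases hWt : W = ⊤
      · exact hWt ▸ htop.le
      obtain ⟨x, -, hx⟩ := SetLike.exists_of_lt (lt_top_iff_ne_top.2 hWt)
      refine (card_mul_le_sup hT hx).trans (ih _ (hW.trans le_sup_left) ?_)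
      have hlt : Nat.card ↥W < Nat.card ↥(W ⊔ zpowers x) := by
        refine lt_of_le_of_ne (card_le_of_le le_sup_left) fun h => hx ?_
        have e : W = W ⊔ zpowers x := eq_of_le_of_card_ge le_sup_left h.ge
        rw [e]; exact mem_sup_right (mem_zpowers x)
      have := card_le_card_group (W ⊔ zpowers x)
      omega
  have lower : ∀ (n : ℕ) (W : Subgroup T), center T ≤ W → Nat.card ↥W ≤ n →
      2 * Nat.card T ≤ Nat.card ↥(centralizer (W : Set T)) * Nat.card ↥W := by
    intro n
    induction n with
    | zero => intro W _ h; have := (Nat.card_pos : 0 < Nat.card ↥W); omega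
    | succ n ih =>
      intro W hW h
      by_cases hWz : W = center T
      · exact hWz ▸ hbot.ge
      obtain ⟨U, hU, hmax⟩ := Finite.exists_le_maximal
        (p := fun U : Subgroup T => center T ≤ U ∧ U < W) (a := center T)
        ⟨le_rfl, lt_of_le_of_ne hW (Ne.symm hWz)⟩
      obtain ⟨hUz, hUW⟩ := hmax.1
      obtain ⟨x, hxW, hxU⟩ := SetLike.exists_of_lt hUW
      have e : U ⊔ zpowers x = W := by
        by_contra hne
        have hle := hmax.2 (y := U ⊔ zpowers x)
          ⟨hUz.trans le_sup_left, lt_of_le_of_ne (sup_le hUW.le (zpowers_le.2 hxW)) hne⟩ le_sup_left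
        exact hxU (hle (mem_sup_right (mem_zpowers x)))
      have hlt : Nat.card ↥U < Nat.card ↥W := by
        refine lt_of_le_of_ne (card_le_of_le hUW.le) fun hc => hUW.ne ?_
        exact eq_of_le_of_card_ge hUW.le hc.ge
      refine (ih U hUz (by omega)).trans ?_
      simpa [e] using card_mul_le_sup hT hxU
  exact le_antisymm (upper _ W hW le_rfl) (lower _ W hW le_rfl)

/-- The double centraliser theorem in an extraspecial 2-group. -/
theorem centralizer_centralizer (hT : Cfsg.IsExtraspecial 2 T) {W : Subgroup T} (hW : center T ≤ W) :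
    centralizer ((centralizer (W : Set T) : Subgroup T) : Set T) = W := by
  have h1 := card_centralizer_mul hT hW
  have h2 := card_centralizer_mul hT (W := centralizer (W : Set T)) (center_le_centralizer _)
  rw [← h1, mul_comm] at h2
  have h3 := Nat.eq_of_mul_eq_mul_left Nat.card_pos h2
  exact (eq_of_le_of_card_ge (fun w hw c hc => (hc w hw).symm) h3.le).symm

end Cfsg.Agent.Symplectic
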